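import Mathlib

/-! Eventual vanishing of differences of Hilbert functions for modules graded by a monoid. -/

set_option autoImplicit false
universe u

open fwdDiff

namespace Groth.Agent.H1Multi

section Graded

variable {A S W : Type u} [CommRing A] [CommRing S] [Algebra A S] [AddCommGroup W] [Module A W] [Module S W]
  [IsScalarTower A S W] {ι : Type} [AddCommMonoid ι]

/-- Component maps of a graded module with graded operators `x o` of degree `sh o`. -/
structure Grading (cmp : ι → W →ₗ[A] W) {O : Type} (x : O → S) (sh : O → ι) : Prop where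
  idem : ∀ i w, cmp i (cmp i w) = cmp i w
  comm : ∀ (o : O) i w, cmp (i + sh o) (x o • w) = x o • cmp i w
  vanish : ∀ (o : O) i w, (∀ j, j + sh o ≠ i) → cmp i (x o • w) = 0
  finite : ∀ w, {i | cmp i w ≠ 0}.Finite
  adjoin : Algebra.adjoin A (Set.range x) = ⊤

variable {cmp : ι → W →ₗ[A] W} {O : Type} {x : O → S} {sh : O → ι}

/-- Homogeneous submodules. -/
def IsHom (cmp : ι → W →ₗ[A] W) (N : Submodule S W) : Prop := ∀ m ∈ N, ∀ i, cmp i m ∈ N

/-- The piece of degree `i` of a submodule. -/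
def piece (cmp : ι → W →ₗ[A] W) (N : Submodule S W) (i : ι) : Submodule A W :=
  N.restrictScalars A ⊓ LinearMap.ker (cmp i - LinearMap.id)

theorem mem_piece {N : Submodule S W} {i : ι} {m : W} : m ∈ piece cmp N i ↔ m ∈ N ∧ cmp i m = m := by
  rw [piece, Submodule.mem_inf, Submodule.restrictScalars_mem, LinearMap.mem_ker, LinearMap.sub_apply,
    LinearMap.id_apply, sub_eq_zero]

theorem piece_mono {N N' : Submodule S W} (h : N' ≤ N) (i : ι) : piece cmp N' i ≤ piece cmp N i :=
  fun _ hm => mem_piece.2 ⟨h (mem_piece.1 hm).1, (mem_piece.1 hm).2⟩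

theorem smul_mem_piece (hG : Grading cmp x sh) {N : Submodule S W} {i : ι} {m : W} (hm : m ∈ piece cmp N i) (o : O) :
    x o • m ∈ piece cmp N (i + sh o) :=
  mem_piece.2 ⟨N.smul_mem _ (mem_piece.1 hm).1, by rw [hG.comm, (mem_piece.1 hm).2]⟩

/-- Pieces are generated by the components of generators and images of lower pieces. -/
theorem exists_gen (hG : Grading cmp x sh) [IsNoetherian S W] {N : Submodule S W} (hN : IsHom cmp N) :
    ∃ (g : ι → Submodule A W) (T : Finset ι), (∀ i, (g i).FG) ∧ (∀ i, i ∉ T → g i = ⊥) ∧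
      (∀ i, g i ≤ piece cmp N i) ∧
      ∀ i, piece cmp N i ≤ g i ⊔ ⨆ o, ⨆ j, ⨆ (_ : j + sh o = i), (piece cmp N j).map (DistribSMul.toLinearMap A W (x o)) := by
  classical
  obtain ⟨t, ht⟩ := IsNoetherian.noetherian N
  let g : ι → Submodule A W := fun i => Submodule.span A (t.image fun m => cmp i m : Finset W)
  have htN : ∀ m ∈ t, m ∈ N := fun m hm => ht ▸ Submodule.subset_span hm
  let G : ι → Submodule A W := fun i =>
    g i ⊔ ⨆ o, ⨆ j, ⨆ (_ : j + sh o = i), (piece cmp N j).map (DistribSMul.toLinearMap A W (x o))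
  let T : Submodule A W :=
    { carrier := {m | m ∈ N ∧ ∀ i, cmp i m ∈ G i}
      add_mem' := fun ha hb => ⟨add_mem ha.1 hb.1, fun i => by rw [map_add]; exact add_mem (ha.2 i) (hb.2 i)⟩
      zero_mem' := ⟨zero_mem _, fun i => by rw [map_zero]; exact zero_mem _⟩
      smul_mem' := fun a m hm => ⟨N.smul_of_tower_mem a hm.1, fun i => by
        rw [map_smul]; exact Submodule.smul_mem _ a (hm.2 i)⟩ }
  have hTx : ∀ o, ∀ m ∈ T, x o • m ∈ T := fun o m hm => ⟨N.smul_mem _ hm.1, fun i => by
    by_cases h : ∃ j, j + sh o = i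
    · obtain ⟨j, rfl⟩ := h
      rw [hG.comm]
      exact Submodule.mem_sup_right (Submodule.mem_iSup_of_mem o (Submodule.mem_iSup_of_mem j
        (Submodule.mem_iSup_of_mem rfl ⟨_, mem_piece.2 ⟨hN m hm.1 j, hG.idem j m⟩, rfl⟩)))
    · push Not at h
      rw [hG.vanish o i m h]
      exact zero_mem _⟩
  have hTS : ∀ s : S, ∀ m ∈ T, s • m ∈ T := by
    intro s
    induction (hG.adjoin.ge (Algebra.mem_top (x := s))) using Algebra.adjoin_induction with
    | mem y hy => obtain ⟨o, rfl⟩ := hy; exact hTx o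
    | algebraMap a => intro m hm; rw [algebraMap_smul]; exact T.smul_mem a hm
    | add a b _ _ ha hb => intro m hm; rw [add_smul]; exact add_mem (ha m hm) (hb m hm)
    | mul a b _ _ ha hb => intro m hm; rw [mul_smul]; exact ha _ (hb m hm)
  have hall : ∀ m ∈ N, m ∈ T := fun m hm => by
    rw [← ht] at hm
    induction hm using Submodule.span_induction with
    | mem y hy =>
      exact ⟨htN y hy, fun i => Submodule.mem_sup_left (Submodule.subset_span (Finset.mem_image_of_mem _ hy))⟩
    | zero => exact zero_mem _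
    | add a b _ _ ha hb => exact add_mem ha hb
    | smul s y _ hy => exact hTS s y hy
  refine ⟨g, t.biUnion fun m => (hG.finite m).toFinset, fun i => Submodule.fg_span (Finset.finite_toSet _),
    fun i hi => Submodule.span_eq_bot.2 fun y hy => ?_, fun i => Submodule.span_le.2 fun y hy => ?_, fun i m hm => ?_⟩
  · obtain ⟨m, hm, rfl⟩ := Finset.mem_image.1 hy
    by_contra h
    exact hi (Finset.mem_biUnion.2 ⟨m, hm, (hG.finite m).mem_toFinset.2 h⟩)
  · obtain ⟨m, hm, rfl⟩ := Finset.mem_image.1 hy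
    exact mem_piece.2 ⟨hN m (htN m hm) i, hG.idem i m⟩
  · have := (hall m (mem_piece.1 hm).1).2 i
    rwa [(mem_piece.1 hm).2] at this

/-- The length of a piece of a subquotient. -/
noncomputable def L (cmp : ι → W →ₗ[A] W) (N N' : Submodule S W) (i : ι) : ℤ :=
  ((Module.length A (piece cmp N i)).toNat : ℤ) - ((Module.length A (piece cmp N' i)).toNat : ℤ)

theorem length_piece_ne_top (hfin : ∀ i, Module.length A (piece cmp (⊤ : Submodule S W) i) ≠ ⊤) (N : Submodule S W)
    (i : ι) : Module.length A (piece cmp N i) ≠ ⊤ :=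
  ne_top_of_le_ne_top (hfin i) (Module.length_le_of_injective (Submodule.inclusion (piece_mono le_top i))
    (Submodule.inclusion_injective _))

/-- The fundamental relation. -/
theorem L_shift (hG : Grading cmp x sh) (hfin : ∀ i, Module.length A (piece cmp (⊤ : Submodule S W) i) ≠ ⊤)
    {N N' : Submodule S W} (hN : IsHom cmp N) (hN' : IsHom cmp N') (hle : N' ≤ N) (o : O) (i : ι) :
    L cmp N N' (i + sh o) - L cmp N N' i =
      L cmp N (N' ⊔ N.map (LinearMap.lsmul S W (x o))) (i + sh o) -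
        L cmp (N ⊓ N'.comap (LinearMap.lsmul S W (x o))) N' i := by
  set μ := LinearMap.lsmul S W (x o) with hμ
  set N1 := N ⊓ N'.comap μ
  set N2 := N' ⊔ N.map μ
  set i' := i + sh o
  let P2 := piece cmp N2 i'
  let P' : Submodule A P2 := (piece cmp N' i').comap P2.subtype
  have hmem : ∀ m ∈ piece cmp N i, x o • m ∈ P2 := fun m hm =>
    mem_piece.2 ⟨Submodule.mem_sup_right ⟨m, (mem_piece.1 hm).1, rfl⟩, (mem_piece.1 (smul_mem_piece hG hm o)).2⟩
  let φ : piece cmp N i →ₗ[A] P2 ⧸ P' :=
    P'.mkQ ∘ₗ LinearMap.codRestrict P2 (DistribSMul.toLinearMap A W (x o) ∘ₗ (piece cmp N i).subtype) fun m => hmem _ m.2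
  have hsurj : Function.Surjective φ := fun z => by
    obtain ⟨⟨y, hy⟩, rfl⟩ := Submodule.Quotient.mk_surjective _ z
    obtain ⟨hyN, hyi⟩ := mem_piece.1 hy
    obtain ⟨a, ha, _, ⟨b, hb, rfl⟩, hab⟩ := Submodule.mem_sup.1 hyN
    refine ⟨⟨cmp i b, mem_piece.2 ⟨hN b hb i, hG.idem i b⟩⟩, ?_⟩
    refine (Submodule.Quotient.eq _).2 (mem_piece.2 ⟨?_, ?_⟩)
    · show x o • cmp i b - y ∈ N'
      rw [← hyi, ← hab, map_add, show cmp i' (μ b) = x o • cmp i b from hG.comm o i b, sub_add_cancel_right]
      exact neg_mem (hN' a ha i')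
    · show cmp i' (x o • cmp i b - y) = x o • cmp i b - y
      rw [map_sub, hyi, hG.comm, hG.idem]
  have hker : LinearMap.ker φ = (piece cmp N1 i).comap (piece cmp N i).subtype := by
    ext ⟨m, hm⟩
    rw [LinearMap.mem_ker, LinearMap.comp_apply, Submodule.mkQ_apply, Submodule.Quotient.mk_eq_zero]
    constructor
    · intro h
      exact mem_piece.2 ⟨⟨(mem_piece.1 hm).1, (mem_piece.1 h).1⟩, (mem_piece.1 hm).2⟩
    · intro h
      exact mem_piece.2 ⟨(mem_piece.1 h).1.2, (mem_piece.1 (smul_mem_piece hG hm o)).2⟩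
  have h1 := Module.length_eq_add_of_exact (LinearMap.ker φ).subtype φ (Submodule.injective_subtype _) hsurj
    (LinearMap.exact_subtype_ker_map φ)
  have h2 := Module.length_eq_add_of_exact P'.subtype P'.mkQ (Submodule.injective_subtype _) P'.mkQ_surjective
    (LinearMap.exact_subtype_mkQ P')
  rw [hker, (Submodule.comapSubtypeEquivOfLe (piece_mono (inf_le_left : N1 ≤ N) i)).length_eq] at h1
  rw [(Submodule.comapSubtypeEquivOfLe (piece_mono (le_sup_left : N' ≤ N2) i')).length_eq] at h2
  have hne := length_piece_ne_top (cmp := cmp) hfin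
  have hquot : Module.length A (P2 ⧸ P') ≠ ⊤ := ne_top_of_le_ne_top (hne N2 i')
    (Module.length_le_of_surjective P'.mkQ P'.mkQ_surjective)
  have e1 := congrArg ENat.toNat h1
  have e2 := congrArg ENat.toNat h2
  rw [ENat.toNat_add (hne N1 i) hquot] at e1
  rw [ENat.toNat_add (hne N' i') hquot] at e2
  simp only [L]
  have hP2 : Module.length A P2 = Module.length A (piece cmp N2 i') := rfl
  rw [hP2] at e2
  omega

/-- Differences in the direction `δ` of the length function eventually vanish. -/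
theorem fwdDiff_L_eq_zero (hG : Grading cmp x sh) [IsNoetherian S W]
    (hfin : ∀ i, Module.length A (piece cmp (⊤ : Submodule S W) i) ≠ ⊤) (wt deg : ι → ℕ)
    (hwt : ∀ o j, wt j < wt (j + sh o)) (δ : ι) (hdeg : ∀ i, deg (i + δ) = deg i + 1)
    (hsh : ∀ o, sh o = δ ∨ ∀ j, deg (j + sh o) = deg j) :
    ∀ (k : ℕ) (s : Fin k → O), (∀ t, sh (s t) = δ) → ∀ N N' : Submodule S W, IsHom cmp N → IsHom cmp N' → N' ≤ N →
      (∀ o, sh o = δ → o ∉ Set.range s → ∀ m ∈ N, x o • m ∈ N') →
      ∃ D, ∀ i, D ≤ deg i → (Δ_[δ])^[k] (L cmp N N') i = 0 := by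
  classical
  intro k
  induction k with
  | zero =>
    intro s _ N N' hN hN' hle hkill
    obtain ⟨g, T, -, hgT, -, hgen⟩ := exists_gen hG hN
    refine ⟨(T.sup deg) + 1, fun i hi => ?_⟩
    have h : piece cmp N i ≤ piece cmp N' i := by
      induction hw : wt i using Nat.strong_induction_on generalizing i with
      | _ w ih =>
        refine (hgen i).trans (sup_le ?_ (iSup_le fun o => iSup_le fun j => iSup_le fun hj => ?_))
        · rw [hgT i fun h => by have := Finset.le_sup (f := deg) h; omega]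
          exact bot_le
        · rintro _ ⟨m, hm, rfl⟩
          subst hj
          rcases hsh o with ho | ho
          · exact mem_piece.2 ⟨hkill o ho (by rintro ⟨t, -⟩; exact t.elim0) m (mem_piece.1 hm).1,
              (mem_piece.1 (smul_mem_piece hG hm o)).2⟩
          · exact smul_mem_piece hG (ih (wt j) (hw ▸ hwt o j) j (ho j ▸ hi) rfl hm) o
    show L cmp N N' i = 0
    rw [L, le_antisymm h (piece_mono hle i), sub_self]
  | succ k ih =>
    intro s hs N N' hN hN' hle hkill
    let o₀ := s 0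
    let μ := LinearMap.lsmul S W (x o₀)
    have ho₀ : sh o₀ = δ := hs 0
    have hN1 : IsHom cmp (N ⊓ N'.comap μ) := fun m hm i => ⟨hN m hm.1 i, by
      show x o₀ • cmp i m ∈ N'
      rw [← hG.comm]
      exact hN' _ hm.2 _⟩
    have hN2 : IsHom cmp (N' ⊔ N.map μ) := fun m hm i => by
      obtain ⟨a, ha, _, ⟨b, hb, rfl⟩, rfl⟩ := Submodule.mem_sup.1 hm
      rw [map_add]
      refine add_mem (Submodule.mem_sup_left (hN' a ha i)) (Submodule.mem_sup_right ?_)
      by_cases h : ∃ j, j + sh o₀ = i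
      · obtain ⟨j, rfl⟩ := h
        exact ⟨_, hN b hb j, (hG.comm o₀ j b).symm⟩
      · push Not at h
        rw [show cmp i (μ b) = 0 from hG.vanish o₀ i b h]
        exact zero_mem _
    have hN2N : N' ⊔ N.map μ ≤ N := sup_le hle (Submodule.map_le_iff_le_comap.2 fun m hm => N.smul_mem _ hm)
    have hN1N' : N' ≤ N ⊓ N'.comap μ := le_inf hle fun m hm => N'.smul_mem _ hm
    have hcase : ∀ o, o ∉ Set.range (fun t : Fin k => s t.succ) → o = o₀ ∨ o ∉ Set.range s := fun o ho => by
      by_cases h : o = o₀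
      · exact Or.inl h
      · refine Or.inr ?_
        rintro ⟨t, rfl⟩
        cases t using Fin.cases with
        | zero => exact h rfl
        | succ t => exact ho ⟨t, rfl⟩
    obtain ⟨D₁, h₁⟩ := ih (fun t => s t.succ) (fun t => hs _) _ N' hN1 hN' hN1N' fun o ho ho' m hm => by
      rcases hcase o ho' with rfl | h
      · exact hm.2
      · exact hkill o ho h m hm.1
    obtain ⟨D₂, h₂⟩ := ih (fun t => s t.succ) (fun t => hs _) N _ hN hN2 hN2N fun o ho ho' m hm => by
      rcases hcase o ho' with rfl | h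
      · exact Submodule.mem_sup_right ⟨m, hm, rfl⟩
      · exact Submodule.mem_sup_left (hkill o ho h m hm)
    refine ⟨max D₁ D₂, fun i hi => ?_⟩
    rw [Function.iterate_succ_apply]
    have e : Δ_[δ] (L cmp N N') = (fun i => L cmp N (N' ⊔ N.map μ) (i + δ)) + (-1 : ℤ) • L cmp (N ⊓ N'.comap μ) N' := by
      funext i
      rw [fwdDiff, ← ho₀, Pi.add_apply, Pi.smul_apply, L_shift hG hfin hN hN' hle o₀ i, smul_eq_mul]
      ring
    rw [e, fwdDiff_iter_add, fwdDiff_iter_const_smul, Pi.add_apply, Pi.smul_apply,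
      h₁ i (le_of_max_le_left hi), smul_zero, add_zero, fwdDiff_iter_comp_add]
    refine h₂ _ ?_
    rw [hdeg]
    omega

end Graded

end Groth.Agent.H1Multi
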